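import Groth.Agent.MilnorPic.Seq
import Groth.Agent.ZPic.Natural
import Groth.Agent.S0904

/-!
# Picard groups of closed subschemes in the cohomology of the ambient space
-/

set_option autoImplicit false
set_option linter.style.haveILetI false
set_option backward.isDefEq.respectTransparency false
set_option backward.isDefEq.respectTransparency.types false

universe u

open CategoryTheory CategoryTheory.Limits AlgebraicGeometry TopologicalSpace Opposite

namespace Groth.Agent.MilnorPic

open ZPic

variable {W Y X : Scheme.{u}}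

instance injective_push_M (i : Y ⟶ X) (E : Ext1 Y) [Injective E.M] :
    Injective ((CohTop.push i.base).obj E.M) :=
  S0904.result i.base E.M

variable (X) in
/-- A chosen extension of the units by an injective sheaf. -/
noncomputable def ext : Ext1 X := (exists_injective_ext X).choose

instance : Injective (ext X).M := (exists_injective_ext X).choose_spec.1

instance : Injective (ext X).M.obj := (exists_injective_ext X).choose_spec.2

theorem exists_eqv [PicGrp.Law X] :
    ∃ e : Additive (PicLoc.PicSet X) ≃+ CohTop.H (UnitsSh.unitsAb X) 1,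
      ∀ z, e (picHom (ext X) z) = bd (S := (ext X).seq) (ext X).shortExact z := by
  haveI : Injective (ext X).seq.X₂ := inferInstanceAs (Injective (ext X).M)
  exact exists_addEquiv_of_surjective (E := ext X) (bd (ext X).shortExact) (bd_surjective _)
    (mem_ker_bd (S := (ext X).seq) (ext X).shortExact)

theorem exists_eqvPush (i : Y ⟶ X) [IsClosedImmersion i] [PicGrp.Law Y] :
    ∃ e : Additive (PicLoc.PicSet Y) ≃+ CohTop.H (pu i) 1,
      ∀ z, e (picHom (ext Y) z) = bd (push_shortExact i (ext Y)) z := by
  haveI : Injective ((ext Y).seq.map (CohTop.push i.base)).X₂ :=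
    inferInstanceAs (Injective ((CohTop.push i.base).obj (ext Y).M))
  exact exists_addEquiv_of_surjective (X := Y) (E := ext Y) (bd (push_shortExact i (ext Y))) (bd_surjective _)
    (mem_ker_bd (push_shortExact i (ext Y)))

variable (X) in
/-- The Picard group as cohomology of the units. -/
noncomputable def eqv [PicGrp.Law X] : Additive (PicLoc.PicSet X) ≃+ CohTop.H (UnitsSh.unitsAb X) 1 :=
  exists_eqv.choose

/-- The Picard group of a closed subscheme as cohomology on the ambient space. -/
noncomputable def eqvPush (i : Y ⟶ X) [IsClosedImmersion i] [PicGrp.Law Y] :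
    Additive (PicLoc.PicSet Y) ≃+ CohTop.H (pu i) 1 :=
  (exists_eqvPush i).choose

theorem pullHom_picFun [PicGrp.Law X] [PicGrp.Law Y] (r : Y ⟶ X) (hr : PicGrp.PullMul r)
    (F : Ext1Hom r (ext X) (ext Y)) (z : (ext X).Q.obj.obj (op (⊤ : X.Opens))) :
    PicGrp.pullHom r hr (picFun (ext X) z) = picFun (ext Y) (F.ψApp ⊤ z) := by
  rw [picFun_eq (ext Y) (isInvertible_pull r (exists_rel (ext X) z).choose_spec.1)
    ((exists_rel (ext X) z).choose_spec.2.pullback F)]
  rfl

theorem eqvPush_pullHom [PicGrp.Law X] [PicGrp.Law Y] (i : Y ⟶ X) [IsClosedImmersion i] (hi : PicGrp.PullMul i)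
    (c : PicLoc.PicSet X) :
    eqvPush i (Additive.ofMul (PicGrp.pullHom i hi c)) =
      Sheaf.H.map (UnitsSh.comap i) 1 (eqv X (Additive.ofMul c)) := by
  obtain ⟨F⟩ := nonempty_ext1Hom i (ext X) (ext Y)
  obtain ⟨z, hz⟩ := picHom_surjective (ext X) (Additive.ofMul c)
  have hc : picFun (ext X) z = c := congrArg Additive.toMul hz
  rw [← hz, show eqv X (picHom (ext X) z) = bd (S := (ext X).seq) (ext X).shortExact z from exists_eqv.choose_spec z, ← hc,
    pullHom_picFun i hi F z]
  refine ((exists_eqvPush i).choose_spec (F.ψApp ⊤ z)).trans ?_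
  exact bd_naturality (ext X).shortExact (push_shortExact i (ext Y)) F.toSeq z

theorem eqvPush_comp [PicGrp.Law Y] [PicGrp.Law W] (l : W ⟶ Y) (i : Y ⟶ X) (k : W ⟶ X) (h : l ≫ i = k)
    [IsClosedImmersion l] [IsClosedImmersion i] [IsClosedImmersion k] (hl : PicGrp.PullMul l)
    (c : PicLoc.PicSet Y) :
    eqvPush k (Additive.ofMul (PicGrp.pullHom l hl c)) =
      Sheaf.H.map (cm l i k h) 1 (eqvPush i (Additive.ofMul c)) := by
  subst h
  obtain ⟨F⟩ := nonempty_ext1Hom l (ext Y) (ext W)
  obtain ⟨z, hz⟩ := picHom_surjective (ext Y) (Additive.ofMul c)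
  have hc : picFun (ext Y) z = c := congrArg Additive.toMul hz
  rw [← hz, show eqvPush i (picHom (ext Y) z) = bd (push_shortExact i (ext Y)) z from (exists_eqvPush i).choose_spec z, ← hc,
    pullHom_picFun l hl F z, cm_self]
  refine ((exists_eqvPush (l ≫ i)).choose_spec (F.ψApp ⊤ z)).trans ?_
  exact bd_naturality (push_shortExact i (ext Y)) (push_shortExact (l ≫ i) (ext W))
    (ShortComplex.homMk ((CohTop.push i.base).map (UnitsSh.comap l)) ((CohTop.push i.base).map F.m)
      ((CohTop.push i.base).map F.ψ)
      (((CohTop.push i.base).map_comp _ _).symm.trans ((congrArg (CohTop.push i.base).map F.comm_i.symm).trans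
        ((CohTop.push i.base).map_comp _ _)))
      (((CohTop.push i.base).map_comp _ _).symm.trans ((congrArg (CohTop.push i.base).map F.comm_q.symm).trans
        ((CohTop.push i.base).map_comp _ _)))) z

end Groth.Agent.MilnorPic
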