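import Groth.Agent.MilnorPic.Equiv
import Groth.Agent.DerBC7.H0Geom

/-!
# The Picard group of a union of two closed subschemes
-/

set_option autoImplicit false
set_option linter.style.haveILetI false
set_option backward.isDefEq.respectTransparency false
set_option backward.isDefEq.respectTransparency.types false

universe u

open CategoryTheory CategoryTheory.Limits AlgebraicGeometry TopologicalSpace Opposite CategoryTheory.Abelian

namespace Groth.Agent.MilnorPic

open ZPic

section HMap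

variable {T : TopCat.{u}} {F G K : CohTop.Ab T}

theorem map_hom_add (φ ψ : F ⟶ G) (n : ℕ) (x : CohTop.H F n) :
    Sheaf.H.map (φ + ψ) n x = Sheaf.H.map φ n x + Sheaf.H.map ψ n x := by
  simp only [Sheaf.H.map_apply, Ext.mk₀_add, Ext.comp_add]

theorem map_hom_zero (n : ℕ) (x : CohTop.H F n) : Sheaf.H.map (0 : F ⟶ G) n x = 0 := by
  simp only [Sheaf.H.map_apply, Ext.mk₀_zero, Ext.comp_zero]

theorem map_hom_neg (φ : F ⟶ G) (n : ℕ) (x : CohTop.H F n) : Sheaf.H.map (-φ) n x = -Sheaf.H.map φ n x := by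
  refine eq_neg_of_add_eq_zero_left ?_
  rw [← map_hom_add, neg_add_cancel, map_hom_zero]

theorem map_hom_id (n : ℕ) (x : CohTop.H F n) : Sheaf.H.map (𝟙 F) n x = x := by
  simp only [Sheaf.H.map_apply, Ext.comp_mk₀_id]

theorem map_map (φ : F ⟶ G) (ψ : G ⟶ K) (n : ℕ) (x : CohTop.H F n) :
    Sheaf.H.map ψ n (Sheaf.H.map φ n x) = Sheaf.H.map (φ ≫ ψ) n x :=
  (Sheaf.H.map_comp_apply φ ψ x).symm

theorem eq_zero_of_fst_snd (n : ℕ) (x : CohTop.H (F ⊞ G) n)
    (h1 : Sheaf.H.map (biprod.fst : F ⊞ G ⟶ F) n x = 0) (h2 : Sheaf.H.map (biprod.snd : F ⊞ G ⟶ G) n x = 0) :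
    x = 0 := by
  rw [← map_hom_id n x, ← biprod.total, map_hom_add, Sheaf.H.map_comp_apply, Sheaf.H.map_comp_apply, h1, h2, map_zero,
    map_zero, add_zero]

end HMap

variable {X : Scheme.{u}} {I J : X.IdealSheafData}

theorem comap_inl_g (I J : X.IdealSheafData) :
    (UnitsSh.comap I.subschemeι ≫ biprod.inl) ≫ (seq I J).g = UnitsSh.comap (I ⊔ J).subschemeι := by
  simp only [seq, Category.assoc, Preadditive.comp_sub, biprod.inl_fst_assoc, biprod.inl_snd_assoc, zero_comp,
    comp_zero, sub_zero, comap_cm]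

theorem inl_g (I J : X.IdealSheafData) : biprod.inl ≫ (seq I J).g = cmL I J := by
  simp only [seq, Preadditive.comp_sub, biprod.inl_fst_assoc, biprod.inl_snd_assoc, zero_comp, sub_zero]

theorem inr_g (I J : X.IdealSheafData) : biprod.inr ≫ (seq I J).g = -cmR I J := by
  simp only [seq, Preadditive.comp_sub, biprod.inr_fst_assoc, biprod.inr_snd_assoc, zero_comp, zero_sub]

variable [PicGrp.Law X] [PicGrp.Law I.subscheme] [PicGrp.Law J.subscheme]

/-- If units of the intersection come from the ambient scheme, then a class trivial on both parts is trivial. -/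
theorem eq_one_of_restrict (hIJ : I ⊓ J = ⊥) (hY : PicGrp.PullMul I.subschemeι) (hZ : PicGrp.PullMul J.subschemeι)
    (hunit : ∀ w : (Γ((I ⊔ J).subscheme, (I ⊔ J).subschemeι ⁻¹ᵁ (⊤ : X.Opens)))ˣ,
      ∃ v : (Γ(X, ⊤))ˣ, Units.map ((I ⊔ J).subschemeι.app (⊤ : X.Opens)).hom.toMonoidHom v = w)
    (c : PicLoc.PicSet X) (h1 : PicGrp.pullHom I.subschemeι hY c = 1)
    (h2 : PicGrp.pullHom J.subschemeι hZ c = 1) : c = 1 := by
  have hS := shortExact hIJ
  have hx : Sheaf.H.map (seq I J).f 1 (eqv X (Additive.ofMul c)) = 0 := by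
    refine eq_zero_of_fst_snd 1 _ ?_ ?_
    · refine (map_map _ _ 1 _).trans ?_
      rw [show (seq I J).f ≫ biprod.fst = UnitsSh.comap I.subschemeι from biprod.lift_fst _ _]
      refine (eqvPush_pullHom I.subschemeι hY c).symm.trans ?_
      rw [h1]
      exact map_zero (eqvPush I.subschemeι)
    · refine (map_map _ _ 1 _).trans ?_
      rw [show (seq I J).f ≫ biprod.snd = UnitsSh.comap J.subschemeι from biprod.lift_snd _ _]
      refine (eqvPush_pullHom J.subschemeι hZ c).symm.trans ?_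
      rw [h2]
      exact map_zero (eqvPush J.subschemeι)
  obtain ⟨z, hz⟩ := exists_bd_eq hS _ hx
  obtain ⟨v, hv⟩ := hunit (show Additive (Γ((I ⊔ J).subscheme, (I ⊔ J).subschemeι ⁻¹ᵁ (⊤ : X.Opens)))ˣ from z).toMul
  have hz0 : bd hS z = 0 := by
    refine (mem_ker_bd hS z).2 ⟨(biprod.inl : pu I.subschemeι ⟶ _).hom.app (op ⊤)
      ((UnitsSh.comap I.subschemeι).hom.app (op ⊤) (UnitsSh.sectOfUnit v)), ?_⟩
    refine (congrArg (fun φ : UnitsSh.unitsAb X ⟶ pu (I ⊔ J).subschemeι =>
      φ.hom.app (op (⊤ : X.Opens)) (UnitsSh.sectOfUnit v)) (comap_inl_g I J)).trans ?_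
    exact congrArg (fun w : (Γ((I ⊔ J).subscheme, (I ⊔ J).subschemeι ⁻¹ᵁ (⊤ : X.Opens)))ˣ => Additive.ofMul w) hv
  exact Additive.ofMul.injective ((eqv X).injective ((hz.symm.trans hz0).trans (map_zero (eqv X)).symm))

/-- Classes on the two parts which agree on the intersection glue. -/
theorem exists_glue [PicGrp.Law (I ⊔ J).subscheme] (hIJ : I ⊓ J = ⊥)
    (hY : PicGrp.PullMul I.subschemeι) (hZ : PicGrp.PullMul J.subschemeι)
    (hWY : PicGrp.PullMul (inclL I J)) (hWZ : PicGrp.PullMul (inclR I J))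
    (y : PicLoc.PicSet I.subscheme) (z : PicLoc.PicSet J.subscheme)
    (h : PicGrp.pullHom (inclL I J) hWY y = PicGrp.pullHom (inclR I J) hWZ z) :
    ∃ c : PicLoc.PicSet X, PicGrp.pullHom I.subschemeι hY c = y ∧ PicGrp.pullHom J.subschemeι hZ c = z := by
  haveI : IsClosedImmersion (inclL I J ≫ I.subschemeι) := by rw [inclL_ι]; infer_instance
  haveI : IsClosedImmersion (inclL I J) := IsClosedImmersion.of_comp (inclL I J) I.subschemeι
  haveI : IsClosedImmersion (inclR I J ≫ J.subschemeι) := by rw [inclR_ι]; infer_instance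
  haveI : IsClosedImmersion (inclR I J) := IsClosedImmersion.of_comp (inclR I J) J.subschemeι
  have hS := shortExact hIJ
  let a := eqvPush I.subschemeι (Additive.ofMul y)
  let b := eqvPush J.subschemeι (Additive.ofMul z)
  let v : CohTop.H (seq I J).X₂ 1 :=
    Sheaf.H.map (biprod.inl : pu I.subschemeι ⟶ _) 1 a + Sheaf.H.map (biprod.inr : pu J.subschemeι ⟶ _) 1 b
  have hv : Sheaf.H.map (seq I J).g 1 v = 0 := by
    refine (map_add _ _ _).trans ((congrArg₂ (· + ·) (map_map _ _ 1 a) (map_map _ _ 1 b)).trans ?_)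
    rw [inl_g, inr_g, map_hom_neg,
      ← eqvPush_comp (inclL I J) I.subschemeι (I ⊔ J).subschemeι inclL_ι hWY y,
      ← eqvPush_comp (inclR I J) J.subschemeι (I ⊔ J).subschemeι inclR_ι hWZ z, h, add_neg_cancel]
  obtain ⟨x, hx⟩ := Ext.covariant_sequence_exact₂ _ hS v hv
  refine ⟨((eqv X).symm x).toMul, Additive.ofMul.injective ((eqvPush I.subschemeι).injective ?_),
    Additive.ofMul.injective ((eqvPush J.subschemeι).injective ?_)⟩
  · rw [eqvPush_pullHom, ofMul_toMul, AddEquiv.apply_symm_apply]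
    refine (congrArg (fun φ => Sheaf.H.map φ 1 x) (show (seq I J).f ≫ biprod.fst = UnitsSh.comap I.subschemeι from biprod.lift_fst _ _)).symm.trans ?_
    refine ((map_map _ _ 1 x).symm.trans (congrArg _ hx)).trans ?_
    refine (map_add _ _ _).trans ((congrArg₂ (· + ·) (map_map _ _ 1 a) (map_map _ _ 1 b)).trans ?_)
    rw [biprod.inl_fst, biprod.inr_fst, map_hom_id, map_hom_zero, add_zero]
  · rw [eqvPush_pullHom, ofMul_toMul, AddEquiv.apply_symm_apply]
    refine (congrArg (fun φ => Sheaf.H.map φ 1 x) (show (seq I J).f ≫ biprod.snd = UnitsSh.comap J.subschemeι from biprod.lift_snd _ _)).symm.trans ?_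
    refine ((map_map _ _ 1 x).symm.trans (congrArg _ hx)).trans ?_
    refine (map_add _ _ _).trans ((congrArg₂ (· + ·) (map_map _ _ 1 a) (map_map _ _ 1 b)).trans ?_)
    rw [biprod.inl_snd, biprod.inr_snd, map_hom_id, map_hom_zero, zero_add]

end Groth.Agent.MilnorPic
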