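import Groth.Agent.UnitsSeq.Basic

/-!
# The units sequence of a scheme which is the union of two closed subschemes
-/

set_option autoImplicit false
set_option linter.style.haveILetI false
set_option backward.isDefEq.respectTransparency false
set_option backward.isDefEq.respectTransparency.types false

universe u

open CategoryTheory CategoryTheory.Limits AlgebraicGeometry TopologicalSpace Opposite

namespace Groth.Agent.MilnorPic

open Groth.Agent.AModX UnitsSeq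

variable {W Y X : Scheme.{u}}

/-- The direct image of the units. -/
noncomputable abbrev pu (i : Y ⟶ X) : CohTop.Ab X.toTopCat := (CohTop.push i.base).obj (UnitsSh.unitsAb Y)

/-- A section of the direct image of the units as a function. -/
noncomputable abbrev pval (i : Y ⟶ X) {U : (Opens X.toTopCat)ᵒᵖ} (s : (pu i).obj.obj U) : Γ(Y, i ⁻¹ᵁ U.unop) :=
  ((show Additive (Γ(Y, i ⁻¹ᵁ U.unop))ˣ from s).toMul : (Γ(Y, i ⁻¹ᵁ U.unop))ˣ)

theorem pre_le (l : W ⟶ Y) (i : Y ⟶ X) (k : W ⟶ X) (h : l ≫ i = k) (U : X.Opens) :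
    k ⁻¹ᵁ U ≤ l ⁻¹ᵁ (i ⁻¹ᵁ U) := by
  subst h; exact le_rfl

/-- Functions on preimages along a morphism over the base. -/
noncomputable abbrev γ (l : W ⟶ Y) (i : Y ⟶ X) (k : W ⟶ X) (h : l ≫ i = k) (U : X.Opens) :
    Γ(Y, i ⁻¹ᵁ U) →+* Γ(W, k ⁻¹ᵁ U) :=
  (l.appLE (i ⁻¹ᵁ U) (k ⁻¹ᵁ U) (pre_le l i k h U)).hom

theorem γ_app (l : W ⟶ Y) (i : Y ⟶ X) (k : W ⟶ X) (h : l ≫ i = k) (U : X.Opens) (a : Γ(X, U)) :
    γ l i k h U (i.app U a) = k.app U a := by
  subst h
  show (l.appLE (i ⁻¹ᵁ U) ((l ≫ i) ⁻¹ᵁ U) _).hom (i.app U a) = _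
  rw [Scheme.Hom.comp_app]
  exact congrArg (fun φ : Γ(Y, i ⁻¹ᵁ U) ⟶ Γ(W, (l ≫ i) ⁻¹ᵁ U) => φ.hom (i.app U a)) (Scheme.Hom.app_eq_appLE l).symm

/-- Pullback of units along a morphism over the base. -/
noncomputable def cm (l : W ⟶ Y) (i : Y ⟶ X) (k : W ⟶ X) (h : l ≫ i = k) : pu i ⟶ pu k :=
  ⟨Functor.whiskerRight
    (show i.base _* Y.presheaf ⟶ k.base _* W.presheaf from
      { app := fun U => l.appLE (i ⁻¹ᵁ U.unop) (k ⁻¹ᵁ U.unop) (pre_le l i k h U.unop)
        naturality := fun U V f => (Scheme.Hom.map_appLE l _ _).trans (Scheme.Hom.appLE_map l _ _).symm })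
    UnitsSh.unitsFunctor⟩

theorem cm_self (l : W ⟶ Y) (i : Y ⟶ X) :
    cm l i (l ≫ i) rfl = (CohTop.push i.base).map (UnitsSh.comap l) :=
  Sheaf.hom_ext (NatTrans.ext (funext fun U => AddCommGrpCat.hom_ext <| AddMonoidHom.ext fun s =>
    congrArg (fun φ : Γ(Y, i ⁻¹ᵁ U.unop) ⟶ Γ(W, l ⁻¹ᵁ (i ⁻¹ᵁ U.unop)) =>
      UnitsSh.unitsFunctor.map φ s) (Scheme.Hom.app_eq_appLE l).symm))

theorem comap_cm (l : W ⟶ Y) (i : Y ⟶ X) (k : W ⟶ X) (h : l ≫ i = k) :
    UnitsSh.comap i ≫ cm l i k h = UnitsSh.comap k :=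
  Sheaf.hom_ext (NatTrans.ext (funext fun U => AddCommGrpCat.hom_ext <| AddMonoidHom.ext fun s =>
    congrArg Additive.ofMul (Units.ext (γ_app l i k h U.unop _))))

/-- The units map of any closed immersion is an epimorphism. -/
theorem epi_comap (i : Y ⟶ X) [IsClosedImmersion i] : Epi (UnitsSh.comap i) := by
  rw [← Sheaf.isLocallySurjective_iff_epi' AddCommGrpCat.{u}]
  refine ⟨fun {U} s => ?_⟩
  intro x hx
  obtain ⟨_, ⟨V, hV, rfl⟩, hxV, hVU⟩ := X.isBasis_affineOpens.exists_subset_of_mem_open (show x ∈ U from hx) U.2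
  let t : (Γ(Y, i ⁻¹ᵁ V))ˣ := Units.map (resR (i.preimage_mono hVU)).toMonoidHom (show Additive (Γ(Y, i ⁻¹ᵁ U))ˣ from s).toMul
  by_cases hxi : x ∈ Set.range i
  · obtain ⟨a, ha⟩ := i.app_surjective V hV (t : Γ(Y, i ⁻¹ᵁ V))
    have hxb : x ∈ X.basicOpen a := by
      obtain ⟨y, rfl⟩ := hxi
      have : i ⁻¹ᵁ X.basicOpen a = i ⁻¹ᵁ V := by
        rw [Scheme.preimage_basicOpen, ha]
        exact Scheme.basicOpen_of_isUnit _ t.isUnit
      have h1 : y ∈ i ⁻¹ᵁ X.basicOpen a := by rw [this]; exact hxV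
      exact h1
    have hle : X.basicOpen a ≤ V := X.basicOpen_le a
    have hau : IsUnit (resR hle a) := X.toRingedSpace.isUnit_res_basicOpen a
    refine ⟨X.basicOpen a, homOfLE (hle.trans hVU), ⟨UnitsSh.sectOfUnit hau.unit, ?_⟩, hxb⟩
    refine congrArg (fun v : (Γ(Y, i ⁻¹ᵁ X.basicOpen a))ˣ => Additive.ofMul v) (Units.ext (
      show i.app (X.basicOpen a) (resR hle a) = resR (i.preimage_mono (hle.trans hVU))
        ((show Additive (Γ(Y, i ⁻¹ᵁ U))ˣ from s).toMul : Γ(Y, i ⁻¹ᵁ U)) from ?_))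
    rw [show i.app (X.basicOpen a) (resR hle a) = resR (i.preimage_mono hle) (i.app V a) from
      ConcreteCategory.congr_hom (i.naturality (homOfLE hle).op) a, ha]
    exact resR_resR _ _ _
  · let V' : X.Opens := V ⊓ ⟨(Set.range i)ᶜ, i.isClosedEmbedding.isClosed_range.isOpen_compl⟩
    have he : i ⁻¹ᵁ V' = ⊥ := le_bot_iff.1 fun y hy => hy.2 ⟨y, rfl⟩
    haveI : Subsingleton Γ(Y, i ⁻¹ᵁ V') :=
      CommRingCat.subsingleton_of_isTerminal (TopCat.Sheaf.isTerminalOfEqEmpty Y.sheaf he)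
    refine ⟨V', homOfLE (inf_le_left.trans hVU), ⟨UnitsSh.sectOfUnit 1, ?_⟩, hxV, hxi⟩
    haveI : Subsingleton (Γ(Y, i ⁻¹ᵁ V'))ˣ := ⟨fun p q => Units.ext (Subsingleton.elim _ _)⟩
    exact Subsingleton.elim (α := Additive (Γ(Y, i ⁻¹ᵁ V'))ˣ) _ _

variable {F G : CohTop.Ab X.toTopCat}

theorem biprod_sect_ext {U : X.Opens} {s t : (F ⊞ G).obj.obj (op U)}
    (h1 : (biprod.fst : F ⊞ G ⟶ F).hom.app (op U) s = (biprod.fst : F ⊞ G ⟶ F).hom.app (op U) t)
    (h2 : (biprod.snd : F ⊞ G ⟶ G).hom.app (op U) s = (biprod.snd : F ⊞ G ⟶ G).hom.app (op U) t) : s = t := by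
  have key : ∀ x : (F ⊞ G).obj.obj (op U),
      (biprod.inl : F ⟶ F ⊞ G).hom.app (op U) ((biprod.fst : F ⊞ G ⟶ F).hom.app (op U) x) +
        (biprod.inr : G ⟶ F ⊞ G).hom.app (op U) ((biprod.snd : F ⊞ G ⟶ G).hom.app (op U) x) = x :=
    fun x => congrArg (fun φ : F ⊞ G ⟶ F ⊞ G => φ.hom.app (op U) x) biprod.total
  rw [← key s, ← key t, h1, h2]

section Square

variable {I J : X.IdealSheafData}

/-- The inclusion of the intersection in the first part. -/
noncomputable abbrev inclL (I J : X.IdealSheafData) : (I ⊔ J).subscheme ⟶ I.subscheme :=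
  Scheme.IdealSheafData.inclusion (le_sup_left : I ≤ I ⊔ J)

/-- The inclusion of the intersection in the second part. -/
noncomputable abbrev inclR (I J : X.IdealSheafData) : (I ⊔ J).subscheme ⟶ J.subscheme :=
  Scheme.IdealSheafData.inclusion (le_sup_right : J ≤ I ⊔ J)

theorem inclL_ι : inclL I J ≫ I.subschemeι = (I ⊔ J).subschemeι := Scheme.IdealSheafData.inclusion_subschemeι _

theorem inclR_ι : inclR I J ≫ J.subschemeι = (I ⊔ J).subschemeι := Scheme.IdealSheafData.inclusion_subschemeι _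

/-- Restriction of units on the first part to the intersection. -/
noncomputable abbrev cmL (I J : X.IdealSheafData) : pu I.subschemeι ⟶ pu (I ⊔ J).subschemeι :=
  cm (inclL I J) I.subschemeι (I ⊔ J).subschemeι inclL_ι

/-- Restriction of units on the second part to the intersection. -/
noncomputable abbrev cmR (I J : X.IdealSheafData) : pu J.subschemeι ⟶ pu (I ⊔ J).subschemeι :=
  cm (inclR I J) J.subschemeι (I ⊔ J).subschemeι inclR_ι

variable (I J) in
/-- The sequence of units. -/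
noncomputable abbrev seq : ShortComplex (CohTop.Ab X.toTopCat) :=
  ShortComplex.mk (biprod.lift (UnitsSh.comap I.subschemeι) (UnitsSh.comap J.subschemeι))
    (biprod.fst ≫ cmL I J - biprod.snd ≫ cmR I J)
    (by rw [Preadditive.comp_sub, biprod.lift_fst_assoc, biprod.lift_snd_assoc, comap_cm, comap_cm, sub_self])

theorem eq_zero_of_app (hIJ : I ⊓ J = ⊥) {V : X.Opens} (hV : IsAffineOpen V) {a : Γ(X, V)}
    (h1 : I.subschemeι.app V a = 0) (h2 : J.subschemeι.app V a = 0) : a = 0 := by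
  have h3 : a ∈ (I ⊓ J).ideal ⟨V, hV⟩ := by
    rw [Scheme.IdealSheafData.ideal_inf]
    refine ⟨?_, ?_⟩
    · rw [← I.ker_subschemeι_app ⟨V, hV⟩]; exact h1
    · rw [← J.ker_subschemeι_app ⟨V, hV⟩]; exact h2
  rw [hIJ, Scheme.IdealSheafData.ideal_bot] at h3
  exact h3

theorem eq_of_app (hIJ : I ⊓ J = ⊥) {V : X.Opens} (hV : IsAffineOpen V) {a b : Γ(X, V)}
    (h1 : I.subschemeι.app V a = I.subschemeι.app V b) (h2 : J.subschemeι.app V a = J.subschemeι.app V b) :
    a = b :=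
  sub_eq_zero.1 (eq_zero_of_app hIJ hV (by rw [map_sub, h1, sub_self]) (by rw [map_sub, h2, sub_self]))

theorem exists_pair_lift {V : X.Opens} (hV : IsAffineOpen V)
    (y : Γ(I.subscheme, I.subschemeι ⁻¹ᵁ V)) (z : Γ(J.subscheme, J.subschemeι ⁻¹ᵁ V))
    (h : γ (inclL I J) I.subschemeι _ inclL_ι V y = γ (inclR I J) J.subschemeι _ inclR_ι V z) :
    ∃ c : Γ(X, V), I.subschemeι.app V c = y ∧ J.subschemeι.app V c = z := by
  obtain ⟨a, rfl⟩ := I.subschemeι.app_surjective V hV y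
  obtain ⟨b, rfl⟩ := J.subschemeι.app_surjective V hV z
  rw [γ_app, γ_app] at h
  have h3 : a - b ∈ (I ⊔ J).ideal ⟨V, hV⟩ := by
    rw [← (I ⊔ J).ker_subschemeι_app ⟨V, hV⟩]
    show (I ⊔ J).subschemeι.app V (a - b) = 0
    rw [map_sub, h, sub_self]
  rw [Scheme.IdealSheafData.ideal_sup] at h3
  obtain ⟨p, hp, q, hq, hpq⟩ := Submodule.mem_sup.1 h3
  rw [← I.ker_subschemeι_app ⟨V, hV⟩] at hp
  rw [← J.ker_subschemeι_app ⟨V, hV⟩] at hq
  refine ⟨a - p, ?_, ?_⟩
  · rw [map_sub, show I.subschemeι.app V p = 0 from hp, sub_zero]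
  · rw [show a - p = b + q by linear_combination -hpq, map_add, show J.subschemeι.app V q = 0 from hq, add_zero]

theorem exists_unit_lift (hIJ : I ⊓ J = ⊥) {V : X.Opens} (hV : IsAffineOpen V)
    (y : (Γ(I.subscheme, I.subschemeι ⁻¹ᵁ V))ˣ) (z : (Γ(J.subscheme, J.subschemeι ⁻¹ᵁ V))ˣ)
    (h : Units.map (γ (inclL I J) I.subschemeι _ inclL_ι V).toMonoidHom y =
      Units.map (γ (inclR I J) J.subschemeι _ inclR_ι V).toMonoidHom z) :
    ∃ c : (Γ(X, V))ˣ, Units.map (I.subschemeι.app V).hom.toMonoidHom c = y ∧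
      Units.map (J.subschemeι.app V).hom.toMonoidHom c = z := by
  obtain ⟨c, hc1, hc2⟩ := exists_pair_lift hV (y : Γ(I.subscheme, I.subschemeι ⁻¹ᵁ V)) (z : Γ(J.subscheme, J.subschemeι ⁻¹ᵁ V))
    (congrArg Units.val h)
  obtain ⟨d, hd1, hd2⟩ := exists_pair_lift hV ((y⁻¹ : (Γ(I.subscheme, I.subschemeι ⁻¹ᵁ V))ˣ) : Γ(I.subscheme, I.subschemeι ⁻¹ᵁ V))
    ((z⁻¹ : (Γ(J.subscheme, J.subschemeι ⁻¹ᵁ V))ˣ) : Γ(J.subscheme, J.subschemeι ⁻¹ᵁ V))
    (congrArg Units.val ((map_inv _ y).trans ((congrArg (·⁻¹) h).trans (map_inv _ z).symm)))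
  have hcd : c * d = 1 := eq_of_app hIJ hV
    (by rw [map_mul, hc1, hd1, map_one, Units.mul_inv]) (by rw [map_mul, hc2, hd2, map_one, Units.mul_inv])
  exact ⟨⟨c, d, hcd, by rw [mul_comm, hcd]⟩, Units.ext hc1, Units.ext hc2⟩

theorem mono_f (hIJ : I ⊓ J = ⊥) : Mono (seq I J).f := by
  haveI : Mono (seq I J).f.hom := NatTrans.mono_iff_mono_app _ |>.2 fun U =>
    (AddCommGrpCat.mono_iff_injective _).2 fun (s t : (UnitsSh.unitsAb X).obj.obj U) hst => by
      have h1 := congrArg ((biprod.fst : pu I.subschemeι ⊞ pu J.subschemeι ⟶ _).hom.app U) hst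
      have h2 := congrArg ((biprod.snd : pu I.subschemeι ⊞ pu J.subschemeι ⟶ _).hom.app U) hst
      have e1 : ∀ x, (biprod.fst : pu I.subschemeι ⊞ pu J.subschemeι ⟶ _).hom.app U ((seq I J).f.hom.app U x) =
          (UnitsSh.comap I.subschemeι).hom.app U x :=
        fun x => congrArg (fun φ : UnitsSh.unitsAb X ⟶ pu I.subschemeι => φ.hom.app U x) (biprod.lift_fst _ _)
      have e2 : ∀ x, (biprod.snd : pu I.subschemeι ⊞ pu J.subschemeι ⟶ _).hom.app U ((seq I J).f.hom.app U x) =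
          (UnitsSh.comap J.subschemeι).hom.app U x :=
        fun x => congrArg (fun φ : UnitsSh.unitsAb X ⟶ pu J.subschemeι => φ.hom.app U x) (biprod.lift_snd _ _)
      rw [e1, e1] at h1
      rw [e2, e2] at h2
      have h1' : I.subschemeι.app U.unop (uval s) = I.subschemeι.app U.unop (uval t) :=
        congrArg (pval I.subschemeι) h1
      have h2' : J.subschemeι.app U.unop (uval s) = J.subschemeι.app U.unop (uval t) :=
        congrArg (pval J.subschemeι) h2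
      refine congrArg UnitsSh.sectOfUnit (Units.ext (?_ : uval s = uval t))
      refine X.sheaf.eq_of_locally_eq' (fun V : {V : X.affineOpens // (V : X.Opens) ≤ U.unop} => (V.1 : X.Opens))
        U.unop (fun V => homOfLE V.2) (fun x hx => ?_) _ _ fun V => ?_
      · obtain ⟨_, ⟨V, hV, rfl⟩, hxV, hVU⟩ := X.isBasis_affineOpens.exists_subset_of_mem_open hx U.unop.2
        exact Opens.mem_iSup.2 ⟨⟨⟨V, hV⟩, hVU⟩, hxV⟩
      · refine eq_of_app hIJ V.1.2 ?_ ?_
        · exact (ConcreteCategory.congr_hom (I.subschemeι.naturality (homOfLE V.2).op) (uval s)).trans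
            ((congrArg _ h1').trans (ConcreteCategory.congr_hom (I.subschemeι.naturality (homOfLE V.2).op) (uval t)).symm)
        · exact (ConcreteCategory.congr_hom (J.subschemeι.naturality (homOfLE V.2).op) (uval s)).trans
            ((congrArg _ h2').trans (ConcreteCategory.congr_hom (J.subschemeι.naturality (homOfLE V.2).op) (uval t)).symm)
  exact (sheafToPresheaf _ _).mono_of_mono_map (inferInstanceAs (Mono (seq I J).f.hom))

theorem epi_g (I J : X.IdealSheafData) : Epi (seq I J).g := by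
  have h : (UnitsSh.comap I.subschemeι ≫ biprod.inl) ≫ (seq I J).g = UnitsSh.comap (I ⊔ J).subschemeι := by
    simp only [seq, Category.assoc, Preadditive.comp_sub, biprod.inl_fst_assoc, biprod.inl_snd_assoc, zero_comp,
      comp_zero, sub_zero, comap_cm]
  haveI := epi_comap (I ⊔ J).subschemeι
  exact epi_of_epi_fac h

theorem shortExact (hIJ : I ⊓ J = ⊥) : (seq I J).ShortExact := by
  haveI := mono_f hIJ
  haveI := epi_g I J
  refine { exact := BigSiteLib.FppfDesc.exact_of_locally_boundary fun U s hs => ?_ }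
  intro x hx
  obtain ⟨_, ⟨V, hV, rfl⟩, hxV, hVU⟩ := X.isBasis_affineOpens.exists_subset_of_mem_open (show x ∈ U from hx) U.2
  let sV := (seq I J).X₂.obj.map (homOfLE hVU).op s
  have hsV : (seq I J).g.hom.app (op V) sV = 0 := by
    rw [show (seq I J).g.hom.app (op V) sV = (seq I J).X₃.obj.map (homOfLE hVU).op ((seq I J).g.hom.app (op U) s) from
      ConcreteCategory.congr_hom ((seq I J).g.hom.naturality (homOfLE hVU).op) s, hs, map_zero]
  let sY := (biprod.fst : pu I.subschemeι ⊞ pu J.subschemeι ⟶ _).hom.app (op V) sV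
  let sZ := (biprod.snd : pu I.subschemeι ⊞ pu J.subschemeι ⟶ _).hom.app (op V) sV
  have h0 : (cmL I J).hom.app (op V) sY = (cmR I J).hom.app (op V) sZ := sub_eq_zero.1 hsV
  obtain ⟨c, hc1, hc2⟩ := exists_unit_lift hIJ hV
    (show Additive (Γ(I.subscheme, I.subschemeι ⁻¹ᵁ V))ˣ from sY).toMul
    (show Additive (Γ(J.subscheme, J.subschemeι ⁻¹ᵁ V))ˣ from sZ).toMul
    (congrArg (fun v : Additive (Γ((I ⊔ J).subscheme, (I ⊔ J).subschemeι ⁻¹ᵁ V))ˣ => v.toMul) h0)
  refine ⟨V, homOfLE hVU, ⟨UnitsSh.sectOfUnit c, biprod_sect_ext (F := pu I.subschemeι) (G := pu J.subschemeι) ?_ ?_⟩, hxV⟩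
  · refine (congrArg (fun φ : UnitsSh.unitsAb X ⟶ pu I.subschemeι => φ.hom.app (op V) (UnitsSh.sectOfUnit c))
      (biprod.lift_fst (UnitsSh.comap I.subschemeι) (UnitsSh.comap J.subschemeι))).trans ?_
    exact congrArg (fun v : (Γ(I.subscheme, I.subschemeι ⁻¹ᵁ V))ˣ => Additive.ofMul v) hc1
  · refine (congrArg (fun φ : UnitsSh.unitsAb X ⟶ pu J.subschemeι => φ.hom.app (op V) (UnitsSh.sectOfUnit c))
      (biprod.lift_snd (UnitsSh.comap I.subschemeι) (UnitsSh.comap J.subschemeι))).trans ?_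
    exact congrArg (fun v : (Γ(J.subscheme, J.subschemeι ⁻¹ᵁ V))ˣ => Additive.ofMul v) hc2

end Square

end Groth.Agent.MilnorPic
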